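import Mathlib
import Cfsg.Agent.Class.SL2Quat
import Cfsg.Agent.PLocal.SL2Elts

/-! The Borel subgroup `U D` of a subgroup `L ≅ PSL₂(q)`, `q ≡ 3 (mod 4)`. -/

set_option autoImplicit false

namespace Cfsg.Agent.ReeT

open Subgroup Cfsg.Agent.PLocal.SL2Nat Cfsg.Agent.Class.Dickson
open scoped MatrixGroups

variable {G : Type*} [Group G]

structure Bor (p q : ℕ) (L U D : Subgroup G) (w : G) : Prop where
  U_le : U ≤ L
  D_le : D ≤ L
  w_mem : w ∈ L
  card_U : Nat.card U = q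
  card_D : 2 * Nat.card D + 1 = q
  cyc : IsCyclic D
  U_pow : ∀ u ∈ U, u ^ p = 1
  U_comm : ∀ u ∈ U, ∀ v ∈ U, u * v = v * u
  ww : w * w = 1
  w_inv : ∀ d ∈ D, w * d * w⁻¹ = d⁻¹
  norm : ∀ d ∈ D, ∀ u ∈ U, d * u * d⁻¹ ∈ U
  fpf : ∀ d ∈ D, ∀ u ∈ U, d * u = u * d → d = 1 ∨ u = 1
  centD : ∀ d ∈ D, d ≠ 1 → ∀ l ∈ L, l * d = d * l → l ∈ D
  normU : ∀ u ∈ U, u ≠ 1 → ∀ l ∈ L, l * u * l⁻¹ ∈ U → ∃ v ∈ U, ∃ d ∈ D, l = v * d
  opp : ∀ u ∈ U, w * u * w⁻¹ ∈ U → u = 1

variable {F : Type*} [Field F] [Finite F]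

/-- the diagonal torus -/
def torHom : Fˣ →* SL(2, F) :=
  MonoidHom.mk' (fun a => hh (a : F) a.ne_zero) fun _ _ => (hh_mul_hh _ _ _ _).symm

omit [Finite F] in
theorem neg_apply' (g : SL(2, F)) (i j : Fin 2) : (-g).1 i j = -g.1 i j := by
  simp

theorem exists_bor (p : ℕ) [CharP F p] (h4 : Nat.card F % 4 = 3) (ι : PSL(2, F) →* G)
    (hι : Function.Injective ι) : ∃ U D w, Bor p (Nat.card F) ι.range U D w := by
  have := Fintype.ofFinite F
  have hsq : ∀ a : F, a * a ≠ -1 := fun a h =>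
    FiniteField.isSquare_neg_one_iff.1 ⟨a, h.symm⟩ (by rwa [← Nat.card_eq_fintype_card])
  have h2 : (2 : F) ≠ 0 := fun h => hsq 1 (by linear_combination h)
  let π : SL(2, F) →* G := ι.comp (pslMk F)
  have hπ : ∀ g h, π g = π h ↔ h = g ∨ h = -g := fun g h => hι.eq_iff.trans pslMk_eq_iff
  have hπ1 : ∀ g, π g = 1 ↔ g = 1 ∨ g = -1 := fun g =>
    (map_eq_one_iff ι hι).trans pslMk_eq_one_iff
  have hL : ∀ l ∈ ι.range, ∃ g, π g = l := by
    rintro _ ⟨l, rfl⟩
    obtain ⟨g, rfl⟩ := QuotientGroup.mk_surjective l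
    exact ⟨g, rfl⟩
  have hu1 : ∀ a, π (uu a) = 1 → a = 0 := fun a h => by
    rcases (hπ1 _).1 h with h | h
    · exact uu_eq_one_iff.1 h
    · have := congrArg (fun g : SL(2, F) => g.1 0 1) h
      simpa [coe_uu] using this
  have hh1 : ∀ (a : F) (ha : a ≠ 0), π (hh a ha) = 1 ↔ a ^ 2 = 1 := fun a ha => by
    rw [hπ1, sq_eq_one_iff]
    refine or_congr ⟨fun h => ?_, ?_⟩ ⟨fun h => ?_, ?_⟩
    · simpa [coe_hh] using congrArg (fun g : SL(2, F) => g.1 0 0) h
    · rintro rfl; exact hh_one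
    · simpa [coe_hh] using congrArg (fun g : SL(2, F) => g.1 0 0) h
    · rintro rfl
      exact sl_ext (by simp [coe_hh]) (by simp [coe_hh]) (by simp [coe_hh]) (by simp [coe_hh])
  have hD : ∀ d ∈ (π.comp torHom).range, ∃ a ha, d = π (hh a ha) := by
    rintro _ ⟨a, rfl⟩
    exact ⟨a, a.ne_zero, rfl⟩
  have hD' : ∀ a ha, π (hh a ha) ∈ (π.comp torHom).range := fun a ha => ⟨Units.mk0 a ha, rfl⟩
  have hU : ∀ u ∈ (Up F).map π, ∃ a, u = π (uu a) := by
    rintro _ ⟨_, ⟨a, rfl⟩, rfl⟩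
    exact ⟨a, rfl⟩
  have hU' : ∀ a, π (uu a) ∈ (Up F).map π := fun a => mem_map_of_mem _ (uu_mem a)
  have hB : ∀ g : SL(2, F), g.1 1 0 = 0 → ∃ v ∈ (Up F).map π, ∃ d ∈ (π.comp torHom).range,
      π g = v * d := fun g hg => by
    have hd := det_eq g
    rw [hg, mul_zero, sub_zero] at hd
    have h0 : g.1 0 0 ≠ 0 := left_ne_zero_of_mul_eq_one hd
    refine ⟨_, hU' (g.1 0 1 * g.1 0 0), _, hD' _ h0, ?_⟩
    rw [← map_mul]
    congr 1
    refine sl_ext ?_ ?_ ?_ ?_ <;> simp [mul_apply', coe_uu, coe_hh, hg, h0]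
    exact eq_inv_of_mul_eq_one_right hd
  have hN : ∀ (a b : F) (g : SL(2, F)), a ≠ 0 → π (g * uu a * g⁻¹) = π (uu b) → g.1 1 0 = 0 := by
    intro a b g ha h
    have : (g * uu a * g⁻¹).1 1 0 = 0 := by
      rcases (hπ _ _).1 h.symm with h | h <;> rw [h] <;> simp [coe_uu]
    simp only [mul_apply', coe_uu, inv_apply₀₀, inv_apply₁₀] at this
    simp at this
    have : g.1 1 0 ^ 2 * a = 0 := by linear_combination -this
    simpa [ha] using this
  refine ⟨(Up F).map π, (π.comp torHom).range, π (nn 1 one_ne_zero), ?_, ?_, ⟨_, rfl⟩, ?_, ?_,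
    isCyclic_of_surjective _ (MonoidHom.rangeRestrict_surjective _), ?_, ?_, ?_, ?_, ?_, ?_, ?_,
    ?_, ?_⟩
  · rintro _ ⟨g, -, rfl⟩; exact ⟨_, rfl⟩
  · rintro _ ⟨g, rfl⟩; exact ⟨_, rfl⟩
  · rw [← card_Up (F := F)]
    refine (Nat.card_congr (Equiv.ofBijective (π.subgroupMap (Up F)) ⟨?_,
      π.subgroupMap_surjective _⟩)).symm
    refine (injective_iff_map_eq_one _).2 ?_
    rintro ⟨_, a, rfl⟩ h
    have := hu1 a (congrArg Subtype.val h)
    subst this
    exact Subtype.ext uu_zero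
  · have h1 := (π.comp torHom).ker.card_mul_index
    rw [index_ker, Nat.card_units] at h1
    have h3 : Nat.card (π.comp torHom).ker = 2 := by
      have : (π.comp torHom).ker = zpowers (-1) := by
        ext a
        rw [MonoidHom.mem_ker]
        refine (hh1 a a.ne_zero).trans ⟨fun h => ?_, ?_⟩
        · rcases sq_eq_one_iff.1 h with h | h
          · rw [Units.val_eq_one.1 h]; exact one_mem _
          · rw [show a = -1 from Units.ext h]; exact mem_zpowers _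
        · rintro ⟨k, rfl⟩
          rw [← Units.val_pow_eq_pow_val, ← zpow_natCast, ← zpow_mul, mul_comm, zpow_mul]
          simp
      rw [this, Nat.card_zpowers]
      refine orderOf_eq_prime (by simp) fun h => h2 ?_
      have := congrArg Units.val h
      simp only [Units.val_neg, Units.val_one] at this
      linear_combination -this
    rw [h3] at h1
    omega
  · intro u hu
    obtain ⟨a, rfl⟩ := hU u hu
    rw [← map_pow, uu_pow, CharP.cast_eq_zero, zero_mul, uu_zero, map_one]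
  · intro u hu v hv
    obtain ⟨a, rfl⟩ := hU u hu
    obtain ⟨b, rfl⟩ := hU v hv
    rw [← map_mul, ← map_mul, ← uu_add, ← uu_add, add_comm]
  · rw [← map_mul, nn_mul_nn, hh1]; simp
  · intro d hd
    obtain ⟨a, ha, rfl⟩ := hD d hd
    rw [← map_inv, ← map_inv, ← map_mul, ← map_mul]
    congr 1
    rw [mul_inv_eq_iff_eq_mul, eq_inv_mul_iff_mul_eq, nn_mul_hh, hh_mul_nn]
    simp [ha]
  · intro d hd u hu
    obtain ⟨a, ha, rfl⟩ := hD d hd
    obtain ⟨b, rfl⟩ := hU u hu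
    rw [← map_inv, ← map_mul, ← map_mul, hh_mul_uu, mul_inv_cancel_right]
    exact hU' _
  · intro d hd u hu h
    obtain ⟨a, ha, rfl⟩ := hD d hd
    obtain ⟨b, rfl⟩ := hU u hu
    rw [← map_mul, hh_mul_uu, map_mul, mul_left_inj, ← mul_inv_eq_one, ← map_inv, ← map_mul,
      ← uu_neg, ← uu_add] at h
    have := hu1 _ h
    rcases mul_eq_zero.1 (show (a ^ 2 - 1) * b = 0 by linear_combination this) with h | h
    · exact Or.inl ((hh1 a ha).2 (sub_eq_zero.1 h))
    · rw [h, uu_zero, map_one]; exact Or.inr rfl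
  · intro d hd h1 l hl h
    obtain ⟨a, ha, rfl⟩ := hD d hd
    obtain ⟨g, rfl⟩ := hL l hl
    have ha1 : a ^ 2 - 1 ≠ 0 := fun h => h1 ((hh1 a ha).2 (sub_eq_zero.1 h))
    have ha2 : a ^ 2 + 1 ≠ 0 := fun h => hsq a (by linear_combination h)
    have h01 : g.1 0 1 = 0 ∧ g.1 1 0 = 0 := by
      rw [← map_mul, ← map_mul, hπ] at h
      rcases h with h | h <;>
      · have e1 := congrArg (fun g : SL(2, F) => g.1 0 1) h
        have e2 := congrArg (fun g : SL(2, F) => g.1 1 0) h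
        simp only [neg_apply', mul_apply', coe_hh] at e1 e2
        simp at e1 e2
        field_simp at e1 e2
        first
        | exact ⟨(mul_eq_zero.1 (show (a ^ 2 - 1) * g.1 0 1 = 0 by linear_combination e1)).resolve_left ha1,
            (mul_eq_zero.1 (show (a ^ 2 - 1) * g.1 1 0 = 0 by linear_combination -e2)).resolve_left ha1⟩
        | exact ⟨(mul_eq_zero.1 (show (a ^ 2 + 1) * g.1 0 1 = 0 by linear_combination e1)).resolve_left ha2,
            (mul_eq_zero.1 (show (a ^ 2 + 1) * g.1 1 0 = 0 by linear_combination e2)).resolve_left ha2⟩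
    have hd := det_eq g
    rw [h01.1, zero_mul, sub_zero] at hd
    have h0 : g.1 0 0 ≠ 0 := left_ne_zero_of_mul_eq_one hd
    have : g = hh _ h0 := by
      refine sl_ext ?_ ?_ ?_ ?_ <;> simp [coe_hh, h01]
      exact eq_inv_of_mul_eq_one_right hd
    rw [this]
    exact hD' _ _
  · intro u hu h1 l hl h
    obtain ⟨a, rfl⟩ := hU u hu
    obtain ⟨g, rfl⟩ := hL l hl
    obtain ⟨b, hb⟩ := hU _ h
    exact hB g (hN a b g (fun h => h1 (by rw [h, uu_zero, map_one]))
      (by rw [← hb, map_mul, map_mul, map_inv]))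
  · intro u hu h
    obtain ⟨a, rfl⟩ := hU u hu
    obtain ⟨b, hb⟩ := hU _ h
    by_contra h1
    have := hN a b (nn 1 one_ne_zero) (fun h => h1 (by rw [h, uu_zero, map_one]))
      (by rw [← hb, map_mul, map_mul, map_inv])
    simp [coe_nn] at this

end Cfsg.Agent.ReeT
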