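import Mathlib
import Cfsg.Agent.JTW.CDefs
import Cfsg.Agent.Char.DefectZero
import Cfsg.Agent.FGS.FrobeniusCount

/-! Counting products of two involutions. -/

set_option autoImplicit false
set_option linter.unusedSectionVars false

namespace Cfsg.Agent.ReeT

open Subgroup Cfsg Cfsg.Agent.JTW Cfsg.Agent.Char

variable {G : Type*} [Group G] [Fintype G]

theorem sum_pc : ∑ g : G, pc g = (invs G).card ^ 2 := by
  have h := FF_eq (X := G) fun _ => 1
  simp only [FF, Finset.sum_const, nsmul_eq_mul, mul_one] at h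
  rw [sq]
  exact_mod_cast h.symm

theorem pc_one : pc (1 : G) = (invs G).card :=
  Nat.subtype_card _ fun u => by simp [mem_invs]

theorem card_invs {t : G} (ht : orderOf t = 2) (hone : ∀ s : G, orderOf s = 2 → IsConj t s) :
    (invs G).card = (centralizer ({t} : Set G)).index := by
  classical
  rw [← card_filter_isConj]
  congr 1
  ext u
  simp only [Finset.mem_filter, Finset.mem_univ, true_and, mem_invs]
  refine ⟨hone u, fun hu => ?_⟩
  obtain ⟨c, rfl⟩ := isConj_iff.1 hu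
  simpa [ht] using (MulAut.conj c).orderOf_eq t

theorem inverts_of {u g : G} (h1 : orderOf u = 2) (h2 : orderOf (u * g) = 2) :
    u * g * u⁻¹ = g⁻¹ := by
  rw [inv_eq_of_mul_eq_one_right (mul_self_of_orderOf h1), eq_inv_iff_mul_eq_one, mul_assoc,
    mul_self_of_orderOf h2]

theorem pc_le (g : G) : pc g ≤ Nat.card (centralizer ({g} : Set G)) := by
  rcases isEmpty_or_nonempty {u : G // orderOf u = 2 ∧ orderOf (u * g) = 2} with h | ⟨⟨a, ha⟩⟩
  · simp [pc]
  refine Nat.card_le_card_of_injective (fun u => ⟨a⁻¹ * u.1, mem_centralizer_singleton_iff.2 ?_⟩)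
    fun u v e => Subtype.ext (mul_left_cancel (congrArg Subtype.val e))
  calc _ = a⁻¹ * (u.1 * g * u.1⁻¹) * u.1 := by group
    _ = a⁻¹ * (a * g * a⁻¹) * u.1 := by rw [inverts_of u.2.1 u.2.2, inverts_of ha.1 ha.2]
    _ = _ := by group

theorem exists_of_pc {g : G} (h : pc g ≠ 0) : ∃ u, orderOf u = 2 ∧ u * g * u⁻¹ = g⁻¹ :=
  let ⟨⟨u, hu⟩⟩ := (Nat.card_ne_zero.1 h).1
  ⟨u, hu.1, inverts_of hu.1 hu.2⟩

theorem sum_conj_le (M : Subgroup G) (Z T : Finset G)
    (hZ : ∀ m ∈ M, ∀ z ∈ Z, m * z * m⁻¹ ∈ Z) (hT : ∀ x ∈ T, ∃ g, g * x * g⁻¹ ∈ Z) :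
    Nat.card M * ∑ x ∈ T, pc x ≤ Nat.card G * ∑ z ∈ Z, pc z := by
  classical
  calc _ = ∑ x ∈ T, Nat.card M * pc x := Finset.mul_sum _ _ _
    _ ≤ ∑ x ∈ T, ∑ g : G, if g * x * g⁻¹ ∈ Z then pc x else 0 := by
      refine Finset.sum_le_sum fun x hx => ?_
      obtain ⟨g, hg⟩ := hT x hx
      rw [← Finset.sum_filter, Finset.sum_const, smul_eq_mul, ← Nat.card_eq_finsetCard]
      refine Nat.mul_le_mul_right _ (Nat.card_le_card_of_injective
        (fun m => ⟨m * g, by simpa [mul_assoc] using hZ m m.2 _ hg⟩)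
        fun a b e => Subtype.ext (mul_right_cancel (congrArg Subtype.val e)))
    _ = ∑ g : G, ∑ x ∈ T with g * x * g⁻¹ ∈ Z, pc (g * x * g⁻¹) := by
      rw [Finset.sum_comm]
      simp only [Finset.sum_filter, pc_conj]
    _ ≤ ∑ _g : G, ∑ z ∈ Z, pc z := by
      refine Finset.sum_le_sum fun g _ => ?_
      rw [← Finset.sum_image (s := T.filter _) (g := fun x => g * x * g⁻¹) (f := pc)
        fun a _ b _ e => by simpa using e]
      exact Finset.sum_le_sum_of_subset fun z hz => by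
        obtain ⟨x, hx, rfl⟩ := Finset.mem_image.1 hz
        exact (Finset.mem_filter.1 hx).2
    _ = _ := by simp

theorem dvd_card_of_conj {d : ℕ} (Z : Finset G) (hZ : ∀ g, ∀ z ∈ Z, g * z * g⁻¹ ∈ Z)
    (h : ∀ z ∈ Z, d ∣ (centralizer ({z} : Set G)).index) : d ∣ Z.card := by
  classical
  rw [Finset.card_eq_sum_card_image ConjClasses.mk]
  refine Finset.dvd_sum fun c hc => ?_
  obtain ⟨z, hz, rfl⟩ := Finset.mem_image.1 hc
  refine (h z hz).trans (dvd_of_eq ?_)
  rw [← card_filter_isConj]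
  congr 1
  ext x
  simp only [Finset.mem_filter, Finset.mem_univ, true_and, ConjClasses.mk_eq_mk_iff_isConj]
  refine ⟨fun h => ⟨?_, h.symm⟩, fun h => h.2.symm⟩
  obtain ⟨g, rfl⟩ := isConj_iff.1 h
  exact hZ g z hz

open Classical in
/-- the non-trivial solutions of `x ^ a = 1` -/
noncomputable def sol (G : Type*) [Group G] [Fintype G] (a : ℕ) : Finset G :=
  Finset.univ.filter fun x => x ^ a = 1 ∧ x ≠ 1

theorem mem_sol {a : ℕ} {x : G} : x ∈ sol G a ↔ x ^ a = 1 ∧ x ≠ 1 := by simp [sol]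

theorem card_sol {a e k : ℕ} (ha : a = 6 * e + 1) (hk : Nat.card G = a * k) (h6 : k ≡ 6 [MOD a])
    (h : ∀ x ∈ sol G a, Nat.card (centralizer ({x} : Set G)) ∣ a) : (sol G a).card = e * k := by
  classical
  have ha0 : 0 < a := by omega
  obtain ⟨α, hα⟩ : k ∣ (sol G a).card := dvd_card_of_conj _ (fun g z hz => by
    simpa [mem_sol] using hz) fun z hz => by
      obtain ⟨c, hc⟩ := h z hz
      have h1 := (centralizer ({z} : Set G)).card_mul_index
      rw [hk, hc, mul_assoc] at h1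
      exact ⟨c, by rw [Nat.eq_of_mul_eq_mul_left Nat.card_pos h1, mul_comm]⟩
  have h1 : Nat.card {x : G // x ^ a = 1} = (sol G a).card + 1 := by
    rw [← Finset.card_insert_of_notMem (a := 1) (by simp [mem_sol])]
    exact Nat.subtype_card _ fun u => by by_cases h : u = 1 <;> simp [mem_sol, h]
  have h2 := FGS.FrobCount.dvd_card_pow_eq_one (G := G) (Dvd.intro _ hk.symm)
  have h3 : α < a := by
    have : (sol G a).card < Nat.card G := by
      rw [Nat.card_eq_fintype_card]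
      exact Finset.card_lt_univ_of_notMem (x := 1) (by simp [mem_sol])
    rw [hα, hk, mul_comm] at this
    exact lt_of_mul_lt_mul_right this k.zero_le
  rw [h1, hα] at h2
  have h4 : 6 * α + 1 ≡ 6 * e + 1 [MOD a] :=
    ((h6.symm.mul_right α).add_right 1).trans
      (((Nat.modEq_zero_iff_dvd).2 h2).trans (ha ▸ ((Nat.modEq_zero_iff_dvd).2 dvd_rfl).symm))
  have h5 := Nat.ModEq.cancel_left_of_coprime (by rw [ha]; simp) (h4.add_right_cancel' 1)
  rw [hα, mul_comm, Nat.ModEq.eq_of_lt_of_lt h5 h3 (by omega)]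

theorem _root_.Cfsg.Agent.JTW.SIrr.eq_zero {θ : G → ℂ} (h : SIrr G θ) {x : ℤ} {p k : ℕ}
    (hp : p.Prime) (h1 : θ 1 = x) (hk : Nat.card G = x.natAbs * k) (hpk : ¬ p ∣ k) {z : G}
    (hz : p ∣ orderOf z) : θ z = 0 := by
  obtain ⟨χ, ε, hε, rfl⟩ := h.exists_irr
  obtain ⟨d, -, hd⟩ := χ.2.exists_nat_one
  have h2 : x = ε * d := by
    rw [Pi.smul_apply, hd, smul_eq_mul] at h1
    exact_mod_cast h1.symm
  have h3 : x.natAbs = d := by rcases hε with rfl | rfl <;> simp [h2]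
  simp [χ.2.eq_zero_of_defect_zero hp hd (h3 ▸ hk) hpk hz]

end Cfsg.Agent.ReeT
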